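import Cfsg.Agent.H92.S70.Values
import Cfsg.Agent.S1230
import Cfsg.Agent.S2300
import Cfsg.Agent.S0169
import Cfsg.Agent.S4706
import Cfsg.Agent.H44.Inflation
import Cfsg.Agent.H32.PrincipalGalois

/-!
# Inertial index fifteen
-/

set_option autoImplicit false
set_option linter.unusedSectionVars false

open scoped ComplexConjugate

namespace Cfsg.Agent.H92.S70

open Cfsg Subgroup

universe u

namespace Fifteen

variable {G : Type u} [Group G] [Fintype G] {M : Ideal AlgInt} {P : Sylow 2 G} {x : G}

theorem eq_bot_of_big_eq_top (hD : Fifteen P x) (h : big P = ⊤) : theta x = ⊥ := by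
  haveI : (comp P).Normal := Subgroup.normalizer_eq_top_iff.1 h
  refine le_bot_iff.1 ?_
  rw [← hD.core (comp P) inferInstance hD.odd_card_comp.1]
  exact theta_le_comp hD.mem hD.ne

open scoped Pointwise in
/-- With few cosets the completion fixes all of them. -/
theorem comp_fixes (hD : Fifteen P x) (hn : (big P).index < 49) {g : G} {w : G} (hw : w ∈ comp P) :
    w • (g : G ⧸ big P) = (g : G ⧸ big P) := by
  classical
  set H := big P
  set W := comp P
  obtain ⟨hodd, -, hinv⟩ := hD.odd_card_comp
  have hbase : ∀ h ∈ H, h • ((1 : G) : G ⧸ H) = ((1 : G) : G ⧸ H) := fun h hh =>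
    QuotientGroup.eq.2 (by simpa using H.inv_mem hh)
  by_cases hg : (g : G ⧸ H) = ((1 : G) : G ⧸ H)
  · rw [hg]; exact hbase w (le_normalizer hw)
  set q : G ⧸ H := (g : G ⧸ H)
  haveI := Fintype.ofFinite (G ⧸ H)
  haveI : Fintype W := Fintype.ofFinite _
  let O : Finset (G ⧸ H) := (Finset.univ : Finset W).image fun k : W => (k : G) • q
  have hOmem : ∀ {r}, r ∈ O ↔ ∃ k ∈ W, k • q = r := by
    intro r
    simp only [O, Finset.mem_image, Finset.mem_univ, true_and, Subtype.exists, exists_prop]
  have hO1 : ((1 : G) : G ⧸ H) ∉ O := by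
    rw [hOmem]
    rintro ⟨k, hk, hkq⟩
    refine hg ?_
    rw [← inv_smul_smul k q, hkq]
    exact hbase _ (inv_mem (le_normalizer hk))
  have hOodd : Odd O.card := by
    have h : O.card = Nat.card (MulAction.orbit W q) := by
      rw [Nat.card_eq_fintype_card, ← Set.toFinset_card]
      congr 1
      ext r
      simp only [Set.mem_toFinset, hOmem, MulAction.mem_orbit_iff, Subtype.exists]
      exact ⟨fun ⟨k, hk, h⟩ => ⟨k, hk, h⟩, fun ⟨k, hk, h⟩ => ⟨k, hk, h⟩⟩
    rw [h]
    refine hodd.of_dvd_nat ?_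
    rw [Nat.card_congr (MulAction.orbitEquivQuotientStabilizer W q)]
    exact Subgroup.card_quotient_dvd_card _
  have hcommP : ∀ u ∈ (P : Subgroup G), ∀ k ∈ W, ∀ r : G ⧸ H,
      u • k • r = (u * k * u⁻¹) • u • r := fun u hu k hk r => by
    rw [smul_smul, smul_smul, inv_mul_cancel_right]
  -- the translates are disjoint
  have hinj : Function.Injective fun z : ↥(P : Subgroup G) × ↥O => (z.1 : G) • (z.2 : G ⧸ H) := by
    rintro ⟨v, r, hr⟩ ⟨v', r', hr'⟩ h
    have h' : ((v'⁻¹ * v : (P : Subgroup G)) : G) • r = r' := by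
      push_cast
      rw [mul_smul, show (v : G) • r = (v' : G) • r' from h, inv_smul_smul]
    set u : G := ((v'⁻¹ * v : (P : Subgroup G)) : G) with hu
    have huP : u ∈ (P : Subgroup G) := SetLike.coe_mem _
    by_cases hu1 : u = 1
    · have hv : v' = v := inv_mul_eq_one.1 (Subtype.ext hu1)
      subst hv
      exact Prod.ext rfl (Subtype.ext (smul_left_cancel (v' : G) h))
    exfalso
    obtain ⟨k, hk, rfl⟩ := hOmem.1 hr
    obtain ⟨k', hk', hkq'⟩ := hOmem.1 hr'
    -- `u` permutes the orbit
    have huq : u • q ∈ O := by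
      rw [hcommP u huP k hk] at h'
      refine hOmem.2 ⟨(u * k * u⁻¹)⁻¹ * k', mul_mem (inv_mem (hinv u huP k hk)) hk', ?_⟩
      rw [mul_smul, hkq', ← h', inv_smul_smul]
    have hstab : ∀ z ∈ O, u • z ∈ O := by
      intro z hz
      obtain ⟨m, hm, rfl⟩ := hOmem.1 hz
      obtain ⟨m', hm', hm'q⟩ := hOmem.1 huq
      rw [hcommP u huP m hm, ← hm'q, smul_smul]
      exact hOmem.2 ⟨_, mul_mem (hinv u huP m hm) hm', rfl⟩
    have huu : u * u = 1 := hD.sq u huP
    let σ : Equiv.Perm O :=
      { toFun := fun z => ⟨u • (z : G ⧸ H), hstab _ z.2⟩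
        invFun := fun z => ⟨u • (z : G ⧸ H), hstab _ z.2⟩
        left_inv := fun z => Subtype.ext (by
          show u • u • (z : G ⧸ H) = z
          rw [smul_smul, huu, one_smul])
        right_inv := fun z => Subtype.ext (by
          show u • u • (z : G ⧸ H) = z
          rw [smul_smul, huu, one_smul]) }
    have hσ : σ ^ 2 ^ 1 = 1 := by
      rw [pow_one, pow_two]
      refine Equiv.ext fun z => Subtype.ext ?_
      show u • u • (z : G ⧸ H) = z
      rw [smul_smul, huu, one_smul]
    haveI : Fact (Nat.Prime 2) := ⟨Nat.prime_two⟩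
    obtain ⟨⟨z, hz⟩, hzfix⟩ := Equiv.Perm.exists_fixed_point_of_prime (n := 1)
      (show ¬ 2 ∣ Fintype.card O by
        rw [Fintype.card_coe, ← even_iff_two_dvd, Nat.not_even_iff_odd]; exact hOodd) hσ
    have hz1 : u • z = z := congrArg Subtype.val hzfix
    obtain ⟨b, rfl⟩ := QuotientGroup.mk_surjective z
    have hb : b⁻¹ * u * b ∈ H := by
      have := H.inv_mem (QuotientGroup.eq.1 hz1)
      simpa [mul_assoc] using this
    refine hO1 ?_
    rwa [show ((1 : G) : G ⧸ H) = (b : G ⧸ H) from
      QuotientGroup.eq.2 (by simpa using hD.mem_big_of_conj huP hu1 hb)]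
  have hle : 16 * O.card + 1 ≤ H.index := by
    have h1 : ((Finset.univ : Finset (↥(P : Subgroup G) × ↥O)).image
        fun z => (z.1 : G) • (z.2 : G ⧸ H)).card = 16 * O.card := by
      rw [Finset.card_image_of_injective _ hinj, Finset.card_univ, Fintype.card_prod,
        Fintype.card_coe, ← Nat.card_eq_fintype_card, hD.card]
    have h2 : ((1 : G) : G ⧸ H) ∉ (Finset.univ : Finset (↥(P : Subgroup G) × ↥O)).image
        fun z => (z.1 : G) • (z.2 : G ⧸ H) := by
      simp only [Finset.mem_image, Finset.mem_univ, true_and, not_exists]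
      rintro ⟨v, r, hr⟩ h
      refine hO1 ?_
      have : r = ((1 : G) : G ⧸ H) := by
        rw [← inv_smul_smul (v : G) r, show (v : G) • r = _ from h]
        exact hbase _ (inv_mem (hD.le_big v.2))
      exact this ▸ hr
    have := Finset.card_le_univ (insert ((1 : G) : G ⧸ H)
      ((Finset.univ : Finset (↥(P : Subgroup G) × ↥O)).image fun z => (z.1 : G) • (z.2 : G ⧸ H)))
    rw [Finset.card_insert_of_notMem h2, h1, ← Nat.card_eq_fintype_card] at this
    exact this
  have hcard : O.card = 1 := by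
    obtain ⟨r, hr⟩ := hOodd
    omega
  obtain ⟨c, hc⟩ := Finset.card_eq_one.1 hcard
  have h1 : w • q ∈ O := hOmem.2 ⟨w, hw, rfl⟩
  have h2 : q ∈ O := hOmem.2 ⟨1, W.one_mem, one_smul _ _⟩
  rw [hc, Finset.mem_singleton] at h1 h2
  rw [h1, h2]

/-- The cores are trivial. -/
theorem theta_eq_bot (hD : Fifteen P x) (hM : IsPModular 2 M) : theta x = ⊥ := by
  classical
  by_contra hth
  have hn := hD.index_lt hM hth
  set H := big P
  set K := H.normalCore
  have hWK : comp P ≤ K := fun w hw b => by
    have h := QuotientGroup.eq.1 (hD.comp_fixes hn (g := b⁻¹) hw).symm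
    simpa [mul_assoc] using h
  have hKH : K ≤ H := H.normalCore_le
  rcases Nat.even_or_odd (Nat.card K) with hev | hodd
  · obtain ⟨t, ht⟩ := exists_prime_orderOf_dvd_card' (G := K) 2 (even_iff_two_dvd.1 hev)
    rw [← Subgroup.orderOf_coe] at ht
    obtain ⟨T, hT⟩ := (IsPGroup.of_card (n := 1)
      (show Nat.card (zpowers (t : G)) = 2 ^ 1 by rw [Nat.card_zpowers, ht, pow_one])).exists_le_sylow
    obtain ⟨c, hc⟩ := MulAction.exists_smul_eq G T P
    have hct : c * (t : G) * c⁻¹ ∈ (P : Subgroup G) := by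
      rw [← hc]
      exact smul_mem_pointwise_smul (t : G) (MulAut.conj c) (T : Subgroup G) (hT (mem_zpowers _))
    have hK : c * (t : G) * c⁻¹ ∈ K := (inferInstance : K.Normal).conj_mem _ t.2 c
    have ht1 : (t : G) ≠ 1 := fun h => by rw [h, orderOf_one] at ht; omega
    obtain ⟨n, -, hnx⟩ := hD.trans _ hct (fun h => ht1 (conj_eq_one_iff.1 h))
    have hxK : x ∈ K := by
      have := (inferInstance : K.Normal).conj_mem _ hK n⁻¹
      rw [← hnx] at this
      simpa [mul_assoc] using this
    have hPK : (P : Subgroup G) ≤ K := by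
      intro v hv
      by_cases hv1 : v = 1
      · rw [hv1]; exact one_mem K
      · obtain ⟨m, -, rfl⟩ := hD.trans v hv hv1
        exact (inferInstance : K.Normal).conj_mem _ hxK m
    have htop := Sylow.normalizer_sup_eq_top' P hPK
    refine hth (hD.eq_bot_of_big_eq_top (eq_top_iff.2 ?_))
    rw [← htop]
    exact sup_le hD.normalizer_le_big hKH
  · refine hth (le_bot_iff.1 ?_)
    rw [← hD.core K inferInstance hodd]
    exact (theta_le_comp hD.mem hD.ne).trans hWK

theorem cen_eq (hD : Fifteen P x) (hM : IsPModular 2 M) {v : G} (hv : v ∈ (P : Subgroup G))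
    (hv1 : v ≠ 1) : Cen v = (P : Subgroup G) := by
  have h : theta v = ⊥ := by
    rw [← Subgroup.card_eq_one, hD.card_theta hv hv1, Subgroup.card_eq_one]
    exact hD.theta_eq_bot hM
  refine le_antisymm (fun g hg => ?_) (hD.le_cen hv)
  obtain ⟨k, hk, w, hw, rfl⟩ := (hD.split hv hv1).2 g hg
  rw [h, Subgroup.mem_bot] at hk
  rw [hk, one_mul]
  exact hw

open scoped Classical in
/-- The degrees in the principal block are odd. -/
theorem odd_degree (hD : Fifteen P x) (hM : IsPModular 2 M) {χ : IrrCharacter G}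
    (hχ : χ ∈ principalBlock M G) : Odd (charDegree χ.1) := by
  haveI := hM.2.1
  by_cases hn : (P : Subgroup G).Normal
  · obtain ⟨n, ρ, hρ, e⟩ := χ.2
    have hdvd := S0169.result ρ (P : Subgroup G) hD.comm
    have hf : (charDegree χ.1 : ℂ) = (Module.finrank ℂ (Fin n → ℂ) : ℂ) := by
      rw [← H43.irr_charDegree_spec χ, ← e, ρ.char_one]
    rw [Nat.cast_inj] at hf
    rw [hf]
    refine Odd.of_dvd_nat ?_ hdvd
    rw [← Nat.not_even_iff_odd, even_iff_two_dvd]
    exact P.not_dvd_index
  · have hC : ∀ t : G, orderOf t = 2 → IsMulCommutative (Cen t) ∧ ∀ c ∈ Cen t, c ^ 2 = 1 := by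
      intro t ht
      obtain ⟨T, hT⟩ := (IsPGroup.of_card (n := 1)
        (show Nat.card (zpowers t) = 2 ^ 1 by rw [Nat.card_zpowers, ht, pow_one])).exists_le_sylow
      obtain ⟨c, hc⟩ := MulAction.exists_smul_eq G T P
      have hct : c * t * c⁻¹ ∈ (P : Subgroup G) := by
        rw [← hc]
        exact smul_mem_pointwise_smul t (MulAut.conj c) (T : Subgroup G) (hT (mem_zpowers t))
      have ht1 : t ≠ 1 := fun h => by rw [h, orderOf_one] at ht; omega
      have hcen := hD.cen_eq hM hct (fun h => ht1 (conj_eq_one_iff.1 h))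
      have hin : ∀ g ∈ Cen t, c * g * c⁻¹ ∈ (P : Subgroup G) := fun g hg => by
        rw [← hcen, mem_centralizer_singleton_iff, conj_mul, conj_mul,
          mem_centralizer_singleton_iff.1 hg]
      refine ⟨⟨⟨fun a b => Subtype.ext ?_⟩⟩, fun g hg => ?_⟩
      · have h := hD.comm _ (hin a a.2) _ (hin b b.2)
        rw [conj_mul, conj_mul] at h
        exact mul_left_cancel (mul_right_cancel h)
      · have h := hD.sq _ (hin g hg)
        rw [conj_mul, conj_eq_one_iff] at h
        rw [pow_two, h]
    have hnc : ¬ IsCyclic (P : Subgroup G) := fun h => by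
      obtain ⟨g, hg⟩ := h.exists_generator
      have h16 := orderOf_eq_card_of_forall_mem_zpowers hg
      rw [hD.card] at h16
      have : orderOf g ∣ 2 := orderOf_dvd_of_pow_eq_one (Subtype.ext (by
        show (g : G) ^ 2 = 1
        rw [pow_two, hD.sq _ g.2]))
      rw [h16] at this
      exact absurd (Nat.le_of_dvd (by norm_num) this) (by norm_num)
    obtain ⟨F, _, _, hF, ⟨eG⟩⟩ := S1230.result P hnc hn hC
    haveI : CharP F 2 := by
      haveI : Fact (Nat.Prime 2) := ⟨Nat.prime_two⟩
      refine charP_of_card_eq_prime_pow (f := 4) ?_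
      rw [hF, hD.card]; norm_num
    obtain ⟨ψ⟩ := S4706.psl_equiv_sl (F := F) (ringChar.eq F 2)
    let φ : Matrix.SpecialLinearGroup (Fin 2) F →* G := (eG.trans ψ).symm.toMonoidHom
    have hir := H44.isIrrCharacter_comp_surjective φ (eG.trans ψ).symm.surjective χ.2
    have h := (S2300.result (F := F)).1 _ hir
    simp only [map_one, H43.irr_charDegree_spec, hF, hD.card] at h
    obtain ⟨a, ha⟩ := H56.exists_int_involution χ hD.orderOf_eq_two
    obtain ⟨m, hm⟩ := hD.exists_degree_eq hM hχ ha
    have hne : (2 * (a : ℤ) - charDegree χ.1) ≠ 0 := fun h0 =>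
      hD.value_ne_zero hM hχ (by rw [ha, h0, Int.cast_zero])
    have hsq : (2 * (a : ℤ) - charDegree χ.1) ^ 2 ≤ 16 := by
      choose b hb using fun η : IrrCharacter G => H56.exists_int_involution η hD.orderOf_eq_two
      have hs := hD.sum_sq hM
      simp only [hb, map_intCast, ← pow_two] at hs
      have hs' : ∑ η ∈ EC.B0 M G, (2 * (b η : ℤ) - charDegree η.1) ^ 2 = 16 := by exact_mod_cast hs
      have hab : (2 * (a : ℤ) - charDegree χ.1) = 2 * (b χ : ℤ) - charDegree χ.1 := by
        exact_mod_cast ha.symm.trans (hb χ)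
      rw [hab, ← hs']
      exact Finset.single_le_sum (fun i _ => sq_nonneg (2 * (b i : ℤ) - charDegree i.1))
        (EC.mem_B0.2 hχ)
    have hd4 : -4 ≤ 2 * (a : ℤ) - charDegree χ.1 ∧ 2 * (a : ℤ) - charDegree χ.1 ≤ 4 :=
      ⟨by nlinarith, by nlinarith⟩
    rw [← Nat.not_even_iff_odd]
    rintro ⟨r, hr⟩
    push_cast at h
    rcases h with h | h | h | h
    · have h' : charDegree χ.1 = 1 := by exact_mod_cast h
      omega
    · have h' : (charDegree χ.1 : ℤ) = 15 := by
        have : ((charDegree χ.1 : ℤ) : ℂ) = ((15 : ℤ) : ℂ) := by push_cast; rw [h]; norm_num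
        exact_mod_cast this
      omega
    · have h' : charDegree χ.1 = 16 := by exact_mod_cast h
      omega
    · have h' : (charDegree χ.1 : ℤ) = 17 := by
        have : ((charDegree χ.1 : ℤ) : ℂ) = ((17 : ℤ) : ℂ) := by push_cast; rw [h]; norm_num
        exact_mod_cast this
      omega

theorem card_principal (hD : Fifteen P x) (hM : IsPModular 2 M) :
    Nat.card (principalBlock M G) = 8 ∨ Nat.card (principalBlock M G) = 16 := by
  classical
  choose b hb using fun η : IrrCharacter G => H56.exists_int_involution η hD.orderOf_eq_two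
  set d : IrrCharacter G → ℤ := fun η => 2 * (b η : ℤ) - charDegree η.1 with hd
  have hs : ∑ η ∈ EC.B0 M G, d η ^ 2 = 16 := by
    have hdx : ∀ η : IrrCharacter G, η.1 x = (d η : ℂ) := hb
    have h := hD.sum_sq hM
    simp only [hdx, map_intCast, ← pow_two] at h
    exact_mod_cast h
  have hpt : ∀ η ∈ EC.B0 M G, d η ^ 2 = 1 + (if d η ^ 2 = 9 then 8 else 0) := by
    intro η hη
    have hle : d η ^ 2 ≤ 16 :=
      hs ▸ Finset.single_le_sum (fun i _ => sq_nonneg (d i)) hη
    obtain ⟨r, hr⟩ := hD.odd_degree hM (EC.mem_B0.1 hη)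
    have hodd : d η = 2 * ((b η : ℤ) - r - 1) + 1 := by simp only [hd]; omega
    have h4 : -4 ≤ d η ∧ d η ≤ 4 := ⟨by nlinarith, by nlinarith⟩
    have : d η = -3 ∨ d η = -1 ∨ d η = 1 ∨ d η = 3 := by omega
    rcases this with e | e | e | e <;> simp [e]
  rw [Finset.sum_congr rfl hpt, Finset.sum_add_distrib, ← Finset.sum_filter, Finset.sum_const,
    Finset.sum_const, nsmul_eq_mul, nsmul_eq_mul, mul_one, K34.card_B0] at hs
  set c := ((EC.B0 M G).filter fun η => d η ^ 2 = 9).card
  have hle : c ≤ (EC.B0 M G).card := Finset.card_filter_le _ _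
  rw [K34.card_B0] at hle
  omega

end Fifteen

variable {G : Type u} [Group G] [Finite G] {M : Ideal AlgInt}

/-- The case of inertial index fifteen. -/
theorem card_principal_fifteen (hM : IsPModular 2 M) (P : Sylow 2 G) (hcard : Nat.card P = 16)
    (hsq : ∀ a ∈ (P : Subgroup G), a * a = 1) {x : G} (hxP : x ∈ (P : Subgroup G)) (hx1 : x ≠ 1)
    (hnil : ∀ v ∈ (P : Subgroup G), v ≠ 1 → HasNormalPComplement 2 (Cen v))
    (htrans : ∀ v ∈ (P : Subgroup G), v ≠ 1 →
      ∃ n ∈ normalizer ((P : Subgroup G) : Set G), n * x * n⁻¹ = v) :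
    Nat.card (principalBlock M G) = 8 ∨ Nat.card (principalBlock M G) = 16 := by
  classical
  haveI := hM.2.1
  haveI := H19.pPrimeCore_normal 2 G
  set N := Cfsg.pPrimeCore 2 G
  have hn : ¬ 2 ∣ Nat.card N :=
    Nat.prime_two.coprime_iff_not_dvd.1 (H19.pPrimeCore_coprime 2).symm
  have hcount : Nat.card (principalBlock M G) = Nat.card (principalBlock M (G ⧸ N)) := by
    have : principalBlock M G = H44.inflate N '' principalBlock M (G ⧸ N) := by
      ext χ
      rw [H32.mem_principalBlock_iff_inflate hM N hn χ, Set.mem_image]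
    rw [this, Nat.card_image_of_injective (H44.inflate_injective N)]
  rw [hcount]
  haveI := Fintype.ofFinite (G ⧸ N)
  set π := QuotientGroup.mk' N
  let Pb : Sylow 2 (G ⧸ N) := P.mapSurjective (QuotientGroup.mk'_surjective N)
  have hPb : (Pb : Subgroup (G ⧸ N)) = (P : Subgroup G).map π := rfl
  have hinj : ∀ a ∈ (P : Subgroup G), π a = 1 → a = 1 := fun a ha h =>
    eq_one_of_odd_of_sq (odd_orderOf (Nat.not_even_iff_odd.1 (mt even_iff_two_dvd.1 hn))
      ((QuotientGroup.eq_one_iff a).1 h)) (hsq a ha)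
  have hinj' : Function.Injective (π.subgroupMap (P : Subgroup G)) := by
    rw [injective_iff_map_eq_one]
    exact fun a ha => Subtype.ext (hinj a a.2 (congrArg Subtype.val ha))
  have hD : Fifteen Pb (π x) := by
    refine ⟨?_, ?_, ⟨x, hxP, rfl⟩, fun h => hx1 (hinj x hxP h), ?_, ?_, ?_⟩
    · rw [← hcard]
      exact (Nat.card_congr (Equiv.ofBijective (π.subgroupMap (P : Subgroup G))
        ⟨hinj', π.subgroupMap_surjective _⟩)).symm
    · rintro _ ⟨a, ha, rfl⟩
      rw [← map_mul, hsq a ha, map_one]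
    · rintro _ ⟨a, ha, rfl⟩ ha1
      have ha1' : a ≠ 1 := fun h => ha1 (by rw [h, map_one])
      obtain ⟨Q, K, hKn, hKc⟩ := hnil a ha ha1'
      haveI := hKn
      -- the centraliser of the image is the image of the centraliser
      have hsurj : ∀ g : G, π g ∈ Cen (π a) → ∃ c ∈ Cen a, π c = π g := by
        intro g hg
        have hy : g * a * g⁻¹ * a⁻¹ ∈ N := by
          rw [← QuotientGroup.eq_one_iff]
          show π (g * a * g⁻¹ * a⁻¹) = 1
          rw [map_mul, map_mul, map_mul, map_inv, map_inv,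
            mem_centralizer_singleton_iff.1 hg]
          group
        set y := g * a * g⁻¹ * a⁻¹ with hy'
        have hoddN : Odd (Nat.card N) := Nat.not_even_iff_odd.1 (mt even_iff_two_dvd.1 hn)
        have hai : a⁻¹ = a := inv_eq_of_mul_eq_one_right (hsq a ha)
        have hay : a * y * a⁻¹ = y⁻¹ := by
          rw [hy', hai]
          simp only [mul_inv_rev, inv_inv, mul_assoc, hai, hsq a ha, mul_one]
        obtain ⟨m, hm⟩ := hoddN
        set i := y ^ (m + 1) with hi
        have hiN : i ∈ N := pow_mem hy _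
        have hi2 : i * i = y := by
          have h := congrArg Subtype.val (pow_card_eq_one' (x := (⟨y, hy⟩ : N)))
          rw [hm] at h
          rw [hi, ← pow_add, show m + 1 + (m + 1) = 2 * m + 1 + 1 by ring, pow_succ,
            show y ^ (2 * m + 1) = 1 from h, one_mul]
        have hia : a * i * a⁻¹ = i⁻¹ := by rw [hi, ← conj_pow, hay, inv_pow]
        refine ⟨i⁻¹ * g, mem_centralizer_singleton_iff.2 ?_, ?_⟩
        · have hga : g * a = i * i * a * g := by rw [hi2, hy']; simp [mul_assoc]
          calc i⁻¹ * g * a = i⁻¹ * (i * i * a * g) := by rw [mul_assoc, hga]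
            _ = i * a * g := by simp [mul_assoc]
            _ = a * i⁻¹ * g := by
              rw [← hia]; simp [mul_assoc, hai]
              rw [← mul_assoc a a, hsq a ha, one_mul]
            _ = a * (i⁻¹ * g) := mul_assoc _ _ _
        · rw [map_mul, map_inv, show π i = 1 from (QuotientGroup.eq_one_iff i).2 hiN, inv_one, one_mul]
      -- push the complement forward
      let f : Cen a →* Cen (π a) := (π.comp (Cen a).subtype).codRestrict (Cen (π a)) fun c =>
        mem_centralizer_singleton_iff.2 (by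
          show π c * π a = π a * π c
          rw [← map_mul, ← map_mul, mem_centralizer_singleton_iff.1 c.2])
      have hf : Function.Surjective f := fun ⟨q, hq⟩ => by
        obtain ⟨g, rfl⟩ := QuotientGroup.mk'_surjective N q
        obtain ⟨c, hc, hcg⟩ := hsurj g hq
        exact ⟨⟨c, hc⟩, Subtype.ext hcg⟩
      haveI : (K.map f).Normal := Subgroup.Normal.map inferInstance f hf
      refine ⟨Q.mapSurjective hf, K.map f, inferInstance,
        isComplement'_of_disjoint_and_mul_eq_univ ?_ ?_⟩
      · rw [disjoint_iff, eq_bot_iff_forall]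
        intro g hg
        obtain ⟨h1, h2⟩ := mem_inf.1 hg
        obtain ⟨j, hj⟩ := IsPGroup.iff_orderOf.1 (Q.mapSurjective hf).2 ⟨g, h2⟩
        rw [← Subgroup.orderOf_coe] at hj
        have hdvd : orderOf g ∣ Nat.card K :=
          (orderOf_dvd_card h1).trans (card_map_dvd K f)
        have hKodd : (Nat.card K).Coprime (2 ^ j) := Nat.Coprime.pow_right _
          ((Nat.prime_two.coprime_iff_not_dvd.2 fun hd =>
            Q.not_dvd_index (by rwa [hKc.index_eq_card])).symm)
        rw [← orderOf_eq_one_iff]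
        exact Nat.eq_one_of_dvd_coprimes hKodd hdvd (hj ▸ dvd_refl _)
      · refine Set.eq_univ_of_forall fun g => ?_
        obtain ⟨c, rfl⟩ := hf g
        obtain ⟨⟨k, v⟩, hkv⟩ := (hKc.existsUnique c).exists
        exact ⟨f k, ⟨k, k.2, rfl⟩, f v, ⟨v, v.2, rfl⟩, by
          show f k * f v = f c
          rw [← map_mul]; exact congrArg f hkv⟩
    · rintro _ ⟨a, ha, rfl⟩ ha1
      obtain ⟨m, hm, rfl⟩ := htrans a ha fun h => ha1 (by rw [h, map_one])
      exact ⟨π m, le_normalizer_map π ⟨m, hm, rfl⟩, by rw [map_mul, map_mul, map_inv]⟩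
    · intro K hK hodd
      haveI := hK
      have hpre : K.comap π ≤ N := by
        refine H19.le_pPrimeCore inferInstance ?_
        have h : Nat.card (K.comap π) = Nat.card N * Nat.card K := by
          have h1 := (K.comap π).card_mul_index
          rw [K.index_comap_of_surjective (QuotientGroup.mk'_surjective N)] at h1
          have h2 := N.card_mul_index
          have h3 := K.card_mul_index
          rw [Subgroup.index] at h2
          rw [← h2, ← h3] at h1
          exact Nat.eq_of_mul_eq_mul_right (Nat.pos_of_ne_zero index_ne_zero_of_finite)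
            (by rw [h1, mul_assoc])
        rw [h]
        exact Nat.Coprime.mul_left (H19.pPrimeCore_coprime 2) (Nat.coprime_two_right.2 hodd)
      rw [eq_bot_iff_forall]
      intro q hq
      obtain ⟨g, rfl⟩ := QuotientGroup.mk'_surjective N q
      exact (QuotientGroup.eq_one_iff g).2 (hpre hq)
  exact hD.card_principal hM

end Cfsg.Agent.H92.S70
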