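import Cfsg.Agent.H92.S70.Reduce
import Cfsg.Agent.H92.S70.Main

/-!
# Transitivity for inertial index fifteen, and the choice of the Sylow subgroup
-/

set_option autoImplicit false
set_option linter.unusedSectionVars false

namespace Cfsg.Agent.H92.S70

open Cfsg MulAction

universe u

variable {G : Type u} [Group G] [Finite G] {M : Ideal AlgInt}

/-- Index fifteen with a regular orbit. -/
theorem fifteen (hM : IsPModular 2 M) (P : Sylow 2 G)
    (hab : ∀ a ∈ (P : Subgroup G), ∀ b ∈ (P : Subgroup G), a * b = b * a) {x : G}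
    (hxP : x ∈ (P : Subgroup G)) (hx1 : x ≠ 1) (hl : K34.secRank 2 M x = 1)
    (hcard : Nat.card P = 16) (hsq : ∀ a ∈ (P : Subgroup G), a * a = 1)
    (he : Nat.card (auto (P : Subgroup G)) = 15) :
    Nat.card (principalBlock M G) = 8 ∨ Nat.card (principalBlock M G) = 16 := by
  classical
  haveI := hM.2.1
  haveI := Fintype.ofFinite G
  haveI : Fintype (P : Subgroup G) := Fintype.ofFinite _
  haveI : Fintype (auto (P : Subgroup G)) := Fintype.ofFinite _
  haveI := Fintype.ofFinite (Subgroup.centralizer ({x} : Set G))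
  set A := auto (P : Subgroup G)
  set xP : (P : Subgroup G) := ⟨x, hxP⟩
  have hstab : stabilizer A xP = ⊥ :=
    stabilizer_eq_bot P hab xP ((H32.blockRank_principal_eq_one_iff hM).1 hl)
  have horb : (orbit A xP).toFinset = Finset.univ.erase 1 := by
    refine Finset.eq_of_subset_of_card_le (fun v hv => Finset.mem_erase.2 ⟨fun h => ?_, Finset.mem_univ v⟩) ?_
    · subst h
      obtain ⟨a, ha⟩ := Set.mem_toFinset.1 hv
      exact hx1 (congrArg Subtype.val (smul_left_cancel a (ha.trans (smul_one a).symm)))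
    · have h := Subgroup.card_eq_card_quotient_mul_card_subgroup (stabilizer A xP)
      rw [← Nat.card_congr (orbitEquivQuotientStabilizer A xP), hstab, Subgroup.card_bot, mul_one,
        he] at h
      rw [Set.toFinset_card, ← Nat.card_eq_fintype_card, ← h,
        Finset.card_erase_of_mem (Finset.mem_univ _), Finset.card_univ, ← Nat.card_eq_fintype_card,
        hcard]
  have hin : ∀ v : (P : Subgroup G), v ≠ 1 → v ∈ orbit A xP := fun v hv =>
    Set.mem_toFinset.1 (horb ▸ Finset.mem_erase.2 ⟨hv, Finset.mem_univ v⟩)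
  refine card_principal_fifteen hM P hcard hsq hxP hx1 (fun v hv hv1 => ?_) fun v hv hv1 => ?_
  · refine complement_of_stabilizer_eq_bot P hab ⟨v, hv⟩ ?_
    obtain ⟨a, ha⟩ := hin ⟨v, hv⟩ fun h => hv1 (congrArg Subtype.val h)
    rw [← ha, stabilizer_smul_eq_stabilizer_map_conj, hstab, Subgroup.map_bot]
  · obtain ⟨⟨-, n, rfl⟩, hn⟩ := hin ⟨v, hv⟩ fun h => hv1 (congrArg Subtype.val h)
    exact ⟨n, n.2, congrArg Subtype.val hn⟩

/-- The whole statement, given the prime case. -/
theorem count (hM : IsPModular 2 M) (P : Sylow 2 G) (hab : IsMulCommutative P) (x : G)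
    (hx : orderOf x = 2)
    (hl : blockRank 2 (principalBlock M (Subgroup.centralizer ({x} : Set G))) = 1)
    (hprime : ∀ Q : Sylow 2 G, IsMulCommutative Q →
      ((Subgroup.centralizer ((Q : Subgroup G) : Set G)).relIndex
        (Subgroup.normalizer ((Q : Subgroup G) : Set G))).Prime →
      blockRank 2 (principalBlock M G) = (Subgroup.centralizer ((Q : Subgroup G) : Set G)).relIndex
        (Subgroup.normalizer ((Q : Subgroup G) : Set G))) :
    (Nat.card P = 8 → Nat.card (principalBlock M G) = 8) ∧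
      (Nat.card P = 16 →
        Nat.card (principalBlock M G) = 8 ∨ Nat.card (principalBlock M G) = 16) := by
  haveI : Fact (Nat.Prime 2) := ⟨Nat.prime_two⟩
  obtain ⟨Q, hQ⟩ := (IsPGroup.of_card (n := 1)
    (show Nat.card (Subgroup.zpowers x) = 2 ^ 1 by rw [Nat.card_zpowers, hx, pow_one])).exists_le_sylow
  have e := Sylow.equiv P Q
  have habQ : ∀ a ∈ (Q : Subgroup G), ∀ b ∈ (Q : Subgroup G), a * b = b * a := by
    intro a ha b hb
    have h : (⟨a, ha⟩ : Q) * ⟨b, hb⟩ = ⟨b, hb⟩ * ⟨a, ha⟩ := e.symm.injective (by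
      rw [map_mul, map_mul]; exact mul_comm' _ _)
    exact congrArg Subtype.val h
  have habQ' : IsMulCommutative Q := ⟨⟨fun a b => Subtype.ext (habQ a a.2 b b.2)⟩⟩
  have hc : Nat.card P = Nat.card Q := Nat.card_congr e.toEquiv
  have hxQ : x ∈ (Q : Subgroup G) := hQ (Subgroup.mem_zpowers x)
  rw [hc]
  by_cases hn : Nat.card Q = 8 ∨ Nat.card Q = 16
  · refine block_count hM Q habQ hxQ hx hl hn (fun hp => ?_) fun h16 hsq h15 =>
      fifteen hM Q habQ hxQ (fun h => by rw [h, orderOf_one] at hx; omega) hl h16 hsq h15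
    rw [card_auto] at hp ⊢
    exact hprime Q habQ' hp
  · exact ⟨fun h => absurd (Or.inl h) hn, fun h => absurd (Or.inr h) hn⟩

end Cfsg.Agent.H92.S70
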