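import Cfsg.Agent.H92.S69.Ranks
import Cfsg.Agent.H22.Fusion

/-!
# Counting the principal block when the automisation acts semiregularly
-/

set_option autoImplicit false
set_option linter.unusedSectionVars false

namespace Cfsg.Agent.H92.S70

open Cfsg MulAction

universe u

variable {G : Type u} [Group G] [Finite G] {p : ℕ} [hp : Fact p.Prime] {M : Ideal AlgInt}

/-- The automorphisms induced by the normaliser on a subgroup. -/
abbrev auto (P : Subgroup G) : Subgroup (MulAut P) := P.normalizerMonoidHom.range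

theorem card_auto (P : Subgroup G) :
    Nat.card (auto P) = (Subgroup.centralizer (P : Set G)).relIndex
      (Subgroup.normalizer (P : Set G)) := by
  rw [auto, ← Subgroup.index_ker, Subgroup.normalizerMonoidHom_ker]
  rfl

/-- The part of a Sylow subgroup centralised by its normaliser. -/
abbrev fixed (P : Subgroup G) : Subgroup G :=
  P ⊓ Subgroup.centralizer (Subgroup.normalizer (P : Set G) : Set G)

theorem mem_fixed {P : Subgroup G} {v : P} :
    (v : G) ∈ fixed P ↔ ∀ a : auto P, a • v = v := by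
  constructor
  · rintro h ⟨-, n, rfl⟩
    refine Subtype.ext ?_
    exact mul_inv_eq_iff_eq_mul.2 (Subgroup.mem_centralizer_iff.1 (Subgroup.mem_inf.1 h).2 n n.2)
  · refine fun h => Subgroup.mem_inf.2 ⟨v.2, Subgroup.mem_centralizer_iff.2 fun n hn => ?_⟩
    exact mul_inv_eq_iff_eq_mul.1 (congrArg Subtype.val (h ⟨_, ⟨n, hn⟩, rfl⟩))

/-- Orbits are the classes of `G` meeting the subgroup. -/
theorem mem_orbit_iff (P : Sylow p G)
    (hab : ∀ a ∈ (P : Subgroup G), ∀ b ∈ (P : Subgroup G), a * b = b * a)
    (v w : (P : Subgroup G)) :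
    w ∈ orbit (auto (P : Subgroup G)) v ↔ IsConj (v : G) w := by
  constructor
  · rintro ⟨⟨-, n, rfl⟩, rfl⟩
    exact isConj_iff.2 ⟨(n : G), rfl⟩
  · intro h
    obtain ⟨g, hg⟩ := isConj_iff.1 h
    obtain ⟨n, hn, hnv⟩ := H22.abelian_sylow_controls P
      ⟨⟨fun a b => Subtype.ext (hab a a.2 b b.2)⟩⟩ v v.2 g (hg ▸ w.2)
    exact ⟨⟨_, ⟨n, hn⟩, rfl⟩, Subtype.ext (hnv.trans hg)⟩

/-- A normal complement in the centraliser leaves the point with trivial stabiliser. -/
theorem stabilizer_eq_bot (P : Sylow p G)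
    (hab : ∀ a ∈ (P : Subgroup G), ∀ b ∈ (P : Subgroup G), a * b = b * a) (v : (P : Subgroup G))
    (hnil : HasNormalPComplement p (Subgroup.centralizer ({(v : G)} : Set G))) :
    stabilizer (auto (P : Subgroup G)) v = ⊥ := by
  set C := Subgroup.centralizer ({(v : G)} : Set G) with hC
  have hPC : (P : Subgroup G) ≤ C := fun a ha =>
    Subgroup.mem_centralizer_singleton_iff.2 (hab a ha v v.2)
  have habC : ∀ a ∈ (P.subtype hPC : Subgroup C), ∀ b ∈ (P.subtype hPC : Subgroup C),
      a * b = b * a := fun a ha b hb => Subtype.ext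
    (hab _ (Subgroup.mem_subgroupOf.1 ha) _ (Subgroup.mem_subgroupOf.1 hb))
  have h := S69.normalizer_le_centralizer_of_complement (P.subtype hPC) habC hnil
  refine (Subgroup.eq_bot_iff_forall _).2 ?_
  rintro ⟨-, n, rfl⟩ hn
  have hnv : (n : G) * v = v * n :=
    mul_inv_eq_iff_eq_mul.1 (congrArg Subtype.val (mem_stabilizer_iff.1 hn))
  have hnC : (n : G) ∈ C := Subgroup.mem_centralizer_singleton_iff.2 hnv
  have hnN : (⟨n, hnC⟩ : C) ∈ Subgroup.normalizer ((P.subtype hPC : Subgroup C) : Set C) :=
    Subgroup.mem_normalizer_iff.2 fun w => Subgroup.mem_normalizer_iff.1 n.2 (w : G)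
  have hcen := Subgroup.mem_centralizer_iff.1 (h hnN)
  refine Subtype.ext (MulEquiv.ext fun w => Subtype.ext ?_)
  have hw := congrArg Subtype.val (hcen ⟨w, hPC w.2⟩ (Subgroup.mem_subgroupOf.2 w.2))
  exact mul_inv_eq_iff_eq_mul.2 hw.symm

/-- A point with trivial stabiliser has a centraliser with a normal complement. -/
theorem complement_of_stabilizer_eq_bot (P : Sylow p G)
    (hab : ∀ a ∈ (P : Subgroup G), ∀ b ∈ (P : Subgroup G), a * b = b * a) (v : (P : Subgroup G))
    (hs : stabilizer (auto (P : Subgroup G)) v = ⊥) :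
    HasNormalPComplement p (Subgroup.centralizer ({(v : G)} : Set G)) := by
  set C := Subgroup.centralizer ({(v : G)} : Set G) with hC
  have hPC : (P : Subgroup G) ≤ C := fun a ha =>
    Subgroup.mem_centralizer_singleton_iff.2 (hab a ha v v.2)
  refine S69.complement_of_normalizer_le (P.subtype hPC) fun n hn => ?_
  have hn' : (n : G) ∈ Subgroup.normalizer ((P : Subgroup G) : Set G) := by
    refine Subgroup.mem_normalizer_iff.2 fun w => ⟨fun hw => ?_, fun hw => ?_⟩
    · exact Subgroup.mem_subgroupOf.1 ((Subgroup.mem_normalizer_iff.1 hn ⟨w, hPC hw⟩).1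
        (Subgroup.mem_subgroupOf.2 hw))
    · have hwC : w ∈ C := by
        have h := Subgroup.mul_mem _ (Subgroup.mul_mem _
          (Subgroup.inv_mem _ n.2) (hPC hw)) n.2
        simpa [mul_assoc] using h
      exact Subgroup.mem_subgroupOf.1 ((Subgroup.mem_normalizer_iff.1 hn ⟨w, hwC⟩).2
        (Subgroup.mem_subgroupOf.2 hw))
  have hmem : (⟨_, ⟨(n : G), hn'⟩, rfl⟩ : auto (P : Subgroup G)) ∈
      stabilizer (auto (P : Subgroup G)) v :=
    mem_stabilizer_iff.2 (Subtype.ext
      (mul_inv_eq_iff_eq_mul.2 (Subgroup.mem_centralizer_singleton_iff.1 n.2)))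
  rw [hs, Subgroup.mem_bot] at hmem
  refine Subgroup.mem_centralizer_iff.2 fun w hw => Subtype.ext ?_
  have h1 := congrArg Subtype.val (DFunLike.congr_fun (congrArg Subtype.val hmem)
    ⟨(w : G), Subgroup.mem_subgroupOf.1 hw⟩)
  exact (mul_inv_eq_iff_eq_mul.1 h1).symm

open scoped Classical in
/-- The number of characters of the principal block when every point outside the fixed
subgroup has trivial stabiliser. -/
theorem card_eq (hM : IsPModular p M) (P : Sylow p G)
    (hab : ∀ a ∈ (P : Subgroup G), ∀ b ∈ (P : Subgroup G), a * b = b * a)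
    (hfree : ∀ v : (P : Subgroup G), (v : G) ∉ fixed (P : Subgroup G) →
      stabilizer (auto (P : Subgroup G)) v = ⊥) :
    Nat.card (auto (P : Subgroup G)) * Nat.card (principalBlock M G) =
      Nat.card (fixed (P : Subgroup G)) *
          (blockRank p (principalBlock M G) * Nat.card (auto (P : Subgroup G))) +
        (Nat.card P - Nat.card (fixed (P : Subgroup G))) := by
  haveI := hM.2.1
  haveI := Fintype.ofFinite G
  haveI : Fintype (P : Subgroup G) := Fintype.ofFinite _
  haveI : Fintype (auto (P : Subgroup G)) := Fintype.ofFinite _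
  set A := auto (P : Subgroup G) with hA
  set e := Nat.card A with he
  set l := blockRank p (principalBlock M G) with hl
  set F := fixed (P : Subgroup G) with hF
  -- a representative in each orbit
  let r : ↥(P : Subgroup G) → ↥(P : Subgroup G) := fun v =>
    (Quotient.mk (orbitRel A (P : Subgroup G)) v).out
  have hr : ∀ v, r v ∈ orbit A v := fun v => orbitRel_apply.1 (Quotient.mk_out v)
  have hrr : ∀ v w, w ∈ orbit A v → r w = r v := fun v w h =>
    congrArg Quotient.out (Quotient.sound (orbitRel_apply.2 h))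
  have hord : ∀ v : (P : Subgroup G), ∃ j, orderOf (v : G) = p ^ j := fun v => by
    obtain ⟨j, hj⟩ := IsPGroup.iff_orderOf.1 P.2 v
    exact ⟨j, by rwa [← Subgroup.orderOf_coe] at hj⟩
  have hr1 : ∀ v, v ≠ 1 → r v ≠ 1 := by
    intro v hv h
    obtain ⟨a, ha⟩ := mem_orbit_iff P hab v (r v) |>.2 ((mem_orbit_iff P hab v (r v)).1 (hr v))
    rw [h] at ha
    exact hv (smul_left_cancel a (ha.trans (smul_one a).symm))
  let S0 : Finset G := ((Finset.univ : Finset (P : Subgroup G)).erase 1).image
    (fun v => ((r v : (P : Subgroup G)) : G))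
  have hS0mem : ∀ s ∈ S0, ∃ v : (P : Subgroup G), v ≠ 1 ∧ ((r v : (P : Subgroup G)) : G) = s := by
    intro s hs
    obtain ⟨v, hv, rfl⟩ := Finset.mem_image.1 hs
    exact ⟨v, (Finset.mem_erase.1 hv).1, rfl⟩
  have h0 : K34.IsSepSet p S0 := by
    refine ⟨fun s hs => ?_, fun s hs t ht hst => ?_⟩
    · obtain ⟨v, hv, rfl⟩ := hS0mem s hs
      exact ⟨fun h => hr1 v hv (Subtype.ext h), hord _⟩
    · obtain ⟨v, -, rfl⟩ := hS0mem s hs
      obtain ⟨w, -, rfl⟩ := hS0mem t ht
      have h := hrr _ _ ((mem_orbit_iff P hab (r v) (r w)).2 hst)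
      rw [hrr _ _ (hr v), hrr _ _ (hr w)] at h
      rw [h]
  obtain ⟨S, hsub, hsep, -, hk⟩ := K34.exists_reps hM h0
  have hS : S = S0 := by
    refine Finset.Subset.antisymm (fun s hs => ?_) hsub
    obtain ⟨hs1, j, hj⟩ := hsep.1 s hs
    obtain ⟨T, hT⟩ := (IsPGroup.of_card (n := j)
      (show Nat.card (Subgroup.zpowers s) = p ^ j by rw [Nat.card_zpowers, hj])).exists_le_sylow
    obtain ⟨c, hc⟩ := MulAction.exists_smul_eq G T P
    have hcs : c * s * c⁻¹ ∈ (P : Subgroup G) := by
      rw [← hc]
      exact Subgroup.smul_mem_pointwise_smul s (MulAut.conj c) (T : Subgroup G)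
        (hT (Subgroup.mem_zpowers s))
    set v : (P : Subgroup G) := ⟨c * s * c⁻¹, hcs⟩ with hv
    have hv1 : v ≠ 1 := fun h => hs1 (conj_eq_one_iff.1 (congrArg Subtype.val h))
    have hm : ((r v : (P : Subgroup G)) : G) ∈ S0 :=
      Finset.mem_image.2 ⟨v, Finset.mem_erase.2 ⟨hv1, Finset.mem_univ _⟩, rfl⟩
    have hconj : IsConj s ((r v : (P : Subgroup G)) : G) :=
      (isConj_iff.2 ⟨c, rfl⟩ : IsConj s (v : G)).trans ((mem_orbit_iff P hab v _).1 (hr v))
    exact hsep.2 s hs _ (hsub hm) hconj ▸ hm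
  rw [hS] at hk
  -- stabilisers and ranks
  have hfix : ∀ v : (P : Subgroup G), (v : G) ∈ F →
      Nat.card (stabilizer A v) = e ∧ r v = v ∧ K34.secRank p M (v : G) = l := by
    intro v hv
    have h := mem_fixed.1 hv
    refine ⟨?_, ?_, ?_⟩
    · rw [show stabilizer A v = ⊤ from eq_top_iff.2 fun a _ => mem_stabilizer_iff.2 (h a),
        Subgroup.card_top]
    · obtain ⟨a, ha⟩ := hr v
      rw [← ha]
      exact h a
    · refine (S69.blockRank_eq_secRank hM P hab v.2 fun t ht => ?_).symm
      exact mul_inv_eq_iff_eq_mul.2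
        (Subgroup.mem_centralizer_iff.1 (Subgroup.mem_inf.1 hv).2 t ht)
  have hout : ∀ v : (P : Subgroup G), (v : G) ∉ F →
      Nat.card (stabilizer A v) = 1 ∧ K34.secRank p M (v : G) = 1 := by
    intro v hv
    refine ⟨by rw [hfree v hv, Subgroup.card_bot], ?_⟩
    haveI := Fintype.ofFinite (Subgroup.centralizer ({(v : G)} : Set G))
    exact (H32.blockRank_principal_eq_one_iff hM).2
      (complement_of_stabilizer_eq_bot P hab v (hfree v hv))
  -- double counting
  let W : ↥(P : Subgroup G) → ℕ := fun v =>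
    K34.secRank p M (v : G) * Nat.card (stabilizer A v)
  have hfib : ∀ s ∈ S0, ∑ v ∈ ((Finset.univ : Finset (P : Subgroup G)).erase 1).filter
      (fun v => ((r v : (P : Subgroup G)) : G) = s), W (r v) = e * K34.secRank p M s := by
    intro s hs
    obtain ⟨v₀, hv₀, rfl⟩ := hS0mem s hs
    have heq : ((Finset.univ : Finset (P : Subgroup G)).erase 1).filter
        (fun v => ((r v : (P : Subgroup G)) : G) = r v₀) = (orbit A (r v₀)).toFinset := by
      ext v
      simp only [Finset.mem_filter, Finset.mem_erase, Finset.mem_univ, and_true, Set.mem_toFinset]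
      constructor
      · rintro ⟨-, h⟩
        rw [← Subtype.ext h]
        exact mem_orbit_symm.1 (hr v)
      · intro h
        refine ⟨fun h1 => hr1 v₀ hv₀ ?_, ?_⟩
        · subst h1
          obtain ⟨a, ha⟩ := h
          exact smul_left_cancel a (ha.trans (smul_one a).symm)
        · rw [hrr _ _ h, hrr _ _ (hr v₀)]
    have hWc : ∀ v ∈ (orbit A (r v₀)).toFinset, W (r v) = W (r v₀) := fun v hv => by
      rw [hrr _ _ (Set.mem_toFinset.1 hv), hrr _ _ (hr v₀)]
    rw [heq, Finset.sum_congr rfl hWc, Finset.sum_const, smul_eq_mul]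
    have horb : (orbit A (r v₀)).toFinset.card * Nat.card (stabilizer A (r v₀)) = e := by
      rw [Set.toFinset_card, ← Nat.card_eq_fintype_card, he,
        Nat.card_congr (orbitEquivQuotientStabilizer A (r v₀)),
        ← Subgroup.card_eq_card_quotient_mul_card_subgroup]
    calc _ = ((orbit A (r v₀)).toFinset.card * Nat.card (stabilizer A (r v₀))) *
        K34.secRank p M ((r v₀ : (P : Subgroup G)) : G) := by
          show _ * (_ * _) = _
          ring
      _ = _ := by rw [horb]
  have hsum : e * ∑ s ∈ S0, K34.secRank p M s =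
      ∑ v ∈ (Finset.univ : Finset (P : Subgroup G)).erase 1, W (r v) := by
    rw [Finset.mul_sum, ← Finset.sum_fiberwise_of_maps_to
      (g := fun v => ((r v : (P : Subgroup G)) : G)) (t := S0)
      (fun v hv => Finset.mem_image_of_mem _ hv)]
    exact (Finset.sum_congr rfl hfib).symm
  have hterm : ∀ v : (P : Subgroup G), W (r v) = if (v : G) ∈ F then l * e else 1 := by
    intro v
    by_cases hv : (v : G) ∈ F
    · obtain ⟨h1, h2, h3⟩ := hfix v hv
      rw [if_pos hv, h2]
      show _ * _ = _
      rw [h1, h3]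
    · have hrv : ((r v : (P : Subgroup G)) : G) ∉ F := fun h => hv (by
        obtain ⟨a, ha⟩ := hr v
        have := mem_fixed.1 h a⁻¹
        rw [← ha, inv_smul_smul] at this
        rwa [this, ha])
      obtain ⟨h1, h2⟩ := hout (r v) hrv
      rw [if_neg hv]
      show _ * _ = _
      rw [h1, h2]
  have hFP : F ≤ (P : Subgroup G) := inf_le_left
  have hcardF : ((Finset.univ : Finset (P : Subgroup G)).filter (fun v : (P : Subgroup G) => (v : G) ∈ F)).card =
      Nat.card F := by
    rw [← Fintype.card_subtype, ← Nat.card_eq_fintype_card]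
    exact Nat.card_congr (Subgroup.subgroupOfEquivOfLe hFP).toEquiv
  have hall : l * e + ∑ v ∈ (Finset.univ : Finset (P : Subgroup G)).erase 1, W (r v) =
      Nat.card F * (l * e) + (Nat.card P - Nat.card F) := by
    have h := Finset.sum_filter_add_sum_filter_not (Finset.univ : Finset (P : Subgroup G))
      (fun v : (P : Subgroup G) => (v : G) ∈ F) (fun v : (P : Subgroup G) => if (v : G) ∈ F then l * e else 1)
    rw [Finset.sum_congr rfl fun v hv => if_pos (Finset.mem_filter.1 hv).2,
      Finset.sum_congr rfl fun v hv => if_neg (Finset.mem_filter.1 hv).2,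
      Finset.sum_const, Finset.sum_const, smul_eq_mul, smul_eq_mul, mul_one, hcardF] at h
    have hc : ((Finset.univ : Finset (P : Subgroup G)).filter (fun v : (P : Subgroup G) => ¬ (v : G) ∈ F)).card =
        Nat.card P - Nat.card F := by
      rw [Finset.filter_not, Finset.card_univ_diff, hcardF, ← Nat.card_eq_fintype_card]
    rw [hc] at h
    rw [h, ← Finset.add_sum_erase _ _ (Finset.mem_univ (1 : (P : Subgroup G))),
      if_pos (show ((1 : (P : Subgroup G)) : G) ∈ F from F.one_mem)]
    exact congrArg _ (Finset.sum_congr rfl fun v _ => hterm v)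
  rw [hk, mul_add, hsum, mul_comm e l]
  exact hall

end Cfsg.Agent.H92.S70
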