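import Cfsg.Agent.H92.S70.Count
import Cfsg.Agent.H92.S69.Main

/-!
# Reduction of the count for an involution with rank one centraliser
-/

set_option autoImplicit false
set_option linter.unusedSectionVars false

namespace Cfsg.Agent.H92.S70

open Cfsg MulAction

universe u

variable {G : Type u} [Group G] [Finite G] {M : Ideal AlgInt}

/-- The automisation of a commutative Sylow 2-subgroup has odd order. -/
theorem odd_card_auto (P : Sylow 2 G)
    (hab : ∀ a ∈ (P : Subgroup G), ∀ b ∈ (P : Subgroup G), a * b = b * a) :
    Odd (Nat.card (auto (P : Subgroup G))) := by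
  rw [← Nat.not_even_iff_odd, even_iff_two_dvd, card_auto]
  intro h
  have h1 : (Subgroup.centralizer ((P : Subgroup G) : Set G)).relIndex
      (Subgroup.normalizer ((P : Subgroup G) : Set G)) ∣ (P : Subgroup G).relIndex
      (Subgroup.normalizer ((P : Subgroup G) : Set G)) :=
    Subgroup.relIndex_dvd_of_le_left _ fun a ha =>
      Subgroup.mem_centralizer_iff.2 fun b hb => hab b hb a ha
  exact P.not_dvd_index ((h.trans h1).trans
    (Dvd.intro _ (Subgroup.relIndex_mul_index Subgroup.le_normalizer)))

/-- Order eight or sixteen: everything reduces to a prime inertial index and to fifteen. -/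
theorem block_count (hM : IsPModular 2 M) (P : Sylow 2 G)
    (hab : ∀ a ∈ (P : Subgroup G), ∀ b ∈ (P : Subgroup G), a * b = b * a) {x : G}
    (hxP : x ∈ (P : Subgroup G)) (hx : orderOf x = 2) (hl : K34.secRank 2 M x = 1)
    (hn : Nat.card P = 8 ∨ Nat.card P = 16)
    (hprime : (Nat.card (auto (P : Subgroup G))).Prime →
      blockRank 2 (principalBlock M G) = Nat.card (auto (P : Subgroup G)))
    (hfifteen : Nat.card P = 16 → (∀ a ∈ (P : Subgroup G), a * a = 1) →
      Nat.card (auto (P : Subgroup G)) = 15 →
      Nat.card (principalBlock M G) = 8 ∨ Nat.card (principalBlock M G) = 16) :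
    (Nat.card P = 8 → Nat.card (principalBlock M G) = 8) ∧
      (Nat.card P = 16 →
        Nat.card (principalBlock M G) = 8 ∨ Nat.card (principalBlock M G) = 16) := by
  classical
  haveI := hM.2.1
  haveI := Fintype.ofFinite G
  haveI : Fintype (P : Subgroup G) := Fintype.ofFinite _
  haveI : Fintype (auto (P : Subgroup G)) := Fintype.ofFinite _
  haveI := Fintype.ofFinite (Subgroup.centralizer ({x} : Set G))
  set A := auto (P : Subgroup G) with hA
  set xP : (P : Subgroup G) := ⟨x, hxP⟩ with hxdef
  have hstab : stabilizer A xP = ⊥ :=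
    stabilizer_eq_bot P hab xP ((H32.blockRank_principal_eq_one_iff hM).1 hl)
  have horb : Nat.card (orbit A xP) = Nat.card A := by
    rw [Nat.card_congr (orbitEquivQuotientStabilizer A xP)]
    have := Subgroup.card_eq_card_quotient_mul_card_subgroup (stabilizer A xP)
    rw [hstab, Subgroup.card_bot, mul_one] at this
    rw [hstab]
    exact this.symm
  -- the subgroup of elements of order at most two
  let Ω : Subgroup (P : Subgroup G) :=
    { carrier := {v | v * v = 1}
      one_mem' := one_mul 1
      mul_mem' := fun {a b} (ha : a * a = 1) (hb : b * b = 1) => by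
        show a * b * (a * b) = 1
        have hba : b * a = a * b := Subtype.ext (hab b b.2 a a.2)
        calc a * b * (a * b) = a * (b * a) * b := by simp only [mul_assoc]
          _ = a * a * (b * b) := by rw [hba]; simp only [mul_assoc]
          _ = 1 := by rw [ha, hb, one_mul]
      inv_mem' := fun {a} (ha : a * a = 1) => by
        show a⁻¹ * a⁻¹ = 1
        rw [← mul_inv_rev, ha, inv_one] }
  have hx1 : x ≠ 1 := fun h => by
    rw [h, orderOf_one] at hx
    omega
  have hle : Nat.card A + 1 ≤ Nat.card Ω := by
    have hsub : insert (1 : (P : Subgroup G)) (orbit A xP).toFinset ⊆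
        Finset.univ.filter (fun v => v ∈ Ω) := by
      intro v hv
      refine Finset.mem_filter.2 ⟨Finset.mem_univ v, ?_⟩
      rcases Finset.mem_insert.1 hv with rfl | hv
      · exact one_mul 1
      · obtain ⟨a, rfl⟩ := Set.mem_toFinset.1 hv
        show a • xP * a • xP = 1
        rw [← smul_mul']
        have hxx : xP * xP = 1 := Subtype.ext (by
          show x * x = 1
          rw [← pow_two, ← hx, pow_orderOf_eq_one])
        rw [hxx, smul_one]
    have h1 : (1 : (P : Subgroup G)) ∉ (orbit A xP).toFinset := fun h => by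
      obtain ⟨a, ha⟩ := Set.mem_toFinset.1 h
      exact hx1 (congrArg Subtype.val (smul_left_cancel a (ha.trans (smul_one a).symm)))
    have := Finset.card_le_card hsub
    rw [Finset.card_insert_of_notMem h1, Set.toFinset_card, ← Nat.card_eq_fintype_card, horb,
      ← Fintype.card_subtype, ← Nat.card_eq_fintype_card] at this
    exact this
  have hΩn : Nat.card Ω ≤ Nat.card P := Subgroup.card_le_card_group Ω
  have hodd := odd_card_auto P hab
  set e := Nat.card A with he
  have hF : fixed (P : Subgroup G) ≤ (P : Subgroup G) := inf_le_left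
  have hdvd : Nat.card (fixed (P : Subgroup G)) ∣ Nat.card P := Subgroup.card_dvd_of_le hF
  -- the trivial index
  by_cases he1 : e = 1
  · haveI : Subsingleton A := (Nat.card_eq_one_iff_unique.1 he1).1
    have hk := card_eq hM P hab fun v _ => Subsingleton.elim _ _
    have hlone : blockRank 2 (principalBlock M G) = 1 := by
      refine (H32.blockRank_principal_eq_one_iff hM).2 (S69.complement_of_normalizer_le P ?_)
      refine Subgroup.relIndex_eq_one.1 ?_
      rw [← card_auto]
      exact he1
    rw [hlone, ← hA, ← he, he1] at hk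
    simp only [mul_one, one_mul] at hk
    have hle' : Nat.card (fixed (P : Subgroup G)) ≤ Nat.card P :=
      Nat.le_of_dvd Nat.card_pos hdvd
    constructor <;> intro h <;> omega
  by_cases hp : e.Prime
  · haveI : Fact e.Prime := ⟨hp⟩
    have hfree : ∀ v : (P : Subgroup G), (v : G) ∉ fixed (P : Subgroup G) →
        stabilizer A v = ⊥ := fun v hv =>
      ((stabilizer A v).eq_bot_or_eq_top_of_prime_card (hp := ⟨hp⟩)).resolve_right fun h =>
        hv (mem_fixed.2 fun a => mem_stabilizer_iff.1 (h ▸ Subgroup.mem_top a))
    have hk := card_eq hM P hab hfree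
    rw [hprime hp, ← hA, ← he] at hk
    have hlt : Nat.card (fixed (P : Subgroup G)) < Nat.card P := by
      refine lt_of_le_of_ne (Nat.le_of_dvd Nat.card_pos hdvd) fun h => he1 ?_
      have hPF := Subgroup.eq_of_le_of_card_ge hF h.ge
      haveI : Subsingleton A := ⟨fun a b => Subtype.ext (MulEquiv.ext fun v => by
        have hv : (v : G) ∈ fixed (P : Subgroup G) := hPF.symm ▸ v.2
        exact (mem_fixed.1 hv a).trans (mem_fixed.1 hv b).symm)⟩
      exact Nat.card_unique
    have he2 : e ≠ 2 := fun h => by rw [h] at hodd; exact absurd hodd (by decide)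
    rcases hn with h8 | h16
    · refine ⟨fun _ => ?_, fun h => absurd (h8.symm.trans h) (by norm_num)⟩
      have hf : Nat.card (fixed (P : Subgroup G)) ∣ 8 := h8 ▸ hdvd
      generalize Nat.card (fixed (P : Subgroup G)) = f at hk hlt hf
      rw [h8] at hk hlt hΩn
      have he7 : e ≤ 7 := by omega
      interval_cases f <;> (try omega) <;>
        interval_cases e <;> (try omega) <;> norm_num at hp
    · refine ⟨fun h => absurd (h16.symm.trans h) (by norm_num), fun _ => ?_⟩
      have hf : Nat.card (fixed (P : Subgroup G)) ∣ 16 := h16 ▸ hdvd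
      generalize Nat.card (fixed (P : Subgroup G)) = f at hk hlt hf
      rw [h16] at hk hlt hΩn
      have he15 : e ≤ 15 := by omega
      interval_cases f <;> (try omega) <;>
        interval_cases e <;> (try omega) <;> norm_num at hp
  -- composite index
  rcases hn with h8 | h16
  · exfalso
    rw [h8] at hΩn
    have he7 : e ≤ 7 := by omega
    obtain ⟨m, hm⟩ := hodd
    have : e = 1 ∨ e = 3 ∨ e = 5 ∨ e = 7 := by omega
    rcases this with h | h | h | h
    · exact he1 h
    all_goals exact hp (h ▸ by norm_num)
  · refine ⟨fun h => absurd (h16.symm.trans h) (by norm_num), fun _ => ?_⟩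
    rw [h16] at hΩn
    obtain ⟨m, hm⟩ := hodd
    have : e = 1 ∨ e = 3 ∨ e = 5 ∨ e = 7 ∨ e = 9 ∨ e = 11 ∨ e = 13 ∨ e = 15 := by omega
    have hel : 9 ≤ e → ∀ a ∈ (P : Subgroup G), a * a = 1 := by
      intro h9 a ha
      have htop : Ω = ⊤ := by
        refine Subgroup.eq_top_of_card_eq _ ?_
        have hd : Nat.card Ω ∣ 2 ^ 4 := by
          rw [show (2 : ℕ) ^ 4 = Nat.card P by rw [h16]; norm_num]
          exact Subgroup.card_subgroup_dvd_card _
        obtain ⟨i, hi4, hi⟩ := (Nat.dvd_prime_pow Nat.prime_two).1 hd
        rw [hi] at hle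
        rw [h16, hi]
        interval_cases i <;> omega
      exact congrArg Subtype.val (show (⟨a, ha⟩ : (P : Subgroup G)) ∈ Ω from htop ▸ Subgroup.mem_top _)
    rcases this with h | h | h | h | h | h | h | h
    · exact absurd h he1
    · exact absurd (h ▸ (by norm_num : (3 : ℕ).Prime)) hp
    · exact absurd (h ▸ (by norm_num : (5 : ℕ).Prime)) hp
    · exact absurd (h ▸ (by norm_num : (7 : ℕ).Prime)) hp
    · refine Or.inr (S69.invariants hM P h16 (fun v => Subtype.ext ?_) ?_).1
      · simpa [pow_two] using hel (by omega) v v.2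
      · rw [← card_auto]
        exact h
    · exact absurd (h ▸ (by norm_num : (11 : ℕ).Prime)) hp
    · exact absurd (h ▸ (by norm_num : (13 : ℕ).Prime)) hp
    · exact hfifteen h16 (hel (by omega)) h

end Cfsg.Agent.H92.S70
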