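import Cfsg.Agent.H92.S70.Pairs
import Cfsg.Agent.H92.S69.Theta
import Cfsg.Agent.H92.K34.Basic
import Cfsg.Agent.H56.DihReflect
import Cfsg.Agent.H43.CharKer
import Cfsg.Agent.H25.TINorm

/-!
# Values of the principal block on elements of even order
-/

set_option autoImplicit false
set_option linter.unusedSectionVars false

open scoped ComplexConjugate

namespace Cfsg.Agent.H92.S70.Fifteen

open Cfsg Subgroup

universe u

variable {G : Type u} [Group G] [Fintype G] {M : Ideal AlgInt} {P : Sylow 2 G} {x : G}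

theorem orderOf_eq_two (hD : Fifteen P x) : orderOf x = 2 :=
  orderOf_eq_prime (by rw [pow_two, hD.sq x hD.mem]) hD.ne

theorem two_part (hD : Fifteen P x) : ∃ j, orderOf x = 2 ^ j := ⟨1, by rw [hD.orderOf_eq_two]; rfl⟩

theorem value_x_mul (hD : Fifteen P x) (hM : IsPModular 2 M) {χ : IrrCharacter G}
    (hχ : χ ∈ principalBlock M G) {k : G} (hk : k ∈ theta x) : χ.1 (x * k) = χ.1 x := by
  obtain ⟨k', hk', rfl⟩ := hk
  exact EC.principal_value hM hχ hD.two_part hk'

/-- Every element of even order is conjugate into `x` times the core. -/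
theorem exists_conj_mul (hD : Fifteen P x) {g : G} (hg : Even (orderOf g)) :
    ∃ k ∈ theta x, IsConj g (x * k) := by
  obtain ⟨a, m, hm, hn⟩ := Nat.exists_eq_two_pow_mul_odd (orderOf_pos g).ne'
  set u := g ^ m with hu
  have hou : orderOf u = 2 ^ a := by
    rw [hu, orderOf_pow' g (by rintro rfl; exact absurd hm (by decide)), hn,
      Nat.gcd_mul_left_left, Nat.mul_div_cancel _ hm.pos]
  obtain ⟨T, hT⟩ := (IsPGroup.of_card (n := a)
    (show Nat.card (zpowers u) = 2 ^ a by rw [Nat.card_zpowers, hou])).exists_le_sylow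
  obtain ⟨c, hc⟩ := MulAction.exists_smul_eq G T P
  have hcu : c * u * c⁻¹ ∈ (P : Subgroup G) := by
    rw [← hc]
    exact smul_mem_pointwise_smul u (MulAut.conj c) (T : Subgroup G) (hT (mem_zpowers u))
  have hu1 : u ≠ 1 := by
    intro h
    rw [h, orderOf_one] at hou
    rw [← hou, one_mul] at hn
    rw [hn] at hg
    exact (Nat.not_even_iff_odd.2 hm) hg
  have huu : u * u = 1 := by
    have := hD.sq _ hcu
    rw [conj_mul] at this
    exact conj_eq_one_iff.1 this
  have hgm : g ^ (m * 2) = 1 := by rw [pow_mul, ← hu, pow_two, huu]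
  obtain ⟨n, hn', hnx⟩ := hD.trans _ hcu (fun h => hu1 (conj_eq_one_iff.1 h))
  set e := n⁻¹ * c with he
  have heu : e * u * e⁻¹ = x := by
    calc e * u * e⁻¹ = n⁻¹ * (c * u * c⁻¹) * n := by simp [he, mul_assoc]
      _ = x := by rw [← hnx]; simp [mul_assoc]
  set s := g ^ (m + 1) with hs
  have hus : u * s = g := by
    rw [hu, hs, ← pow_add, show m + (m + 1) = m * 2 + 1 by ring, pow_succ, hgm, one_mul]
  have hsm : s ^ m = 1 := by
    obtain ⟨r, hr⟩ := hm
    rw [hs, ← pow_mul, show (m + 1) * m = m * 2 * (r + 1) by rw [hr]; ring, pow_mul, hgm, one_pow]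
  refine ⟨e * s * e⁻¹, (hD.mem_theta hD.mem hD.ne).2 ⟨?_, ?_⟩,
    isConj_iff.2 ⟨e, by rw [← heu, conj_mul, hus]⟩⟩
  · rw [← heu, conj_mul, conj_mul, hu, hs, ← pow_add, ← pow_add, add_comm]
  · rw [← MulAut.conj_apply, MulEquiv.orderOf_eq]
    exact hm.of_dvd_nat (orderOf_dvd_of_pow_eq_one hsm)

theorem value_even (hD : Fifteen P x) (hM : IsPModular 2 M) {χ : IrrCharacter G}
    (hχ : χ ∈ principalBlock M G) {g : G} (hg : Even (orderOf g)) : χ.1 g = χ.1 x := by
  obtain ⟨k, hk, hc⟩ := hD.exists_conj_mul hg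
  rw [H26.irr_eq_of_isConj χ hc, hD.value_x_mul hM hχ hk]

theorem card_centralizer (hD : Fifteen P x) :
    Nat.card (Cen x) = Nat.card (theta x) * 16 := (hD.split hD.mem hD.ne).1.symm

open scoped Classical in
/-- The regular elements of the centraliser are its core. -/
theorem sum_regular (hD : Fifteen P x) [Fintype (theta x)] (F : G → ℂ) :
    ∑ s ∈ Finset.univ.filter (fun s : Cen x => IsPRegular 2 s), F (s : G) =
      ∑ k : theta x, F (k : G) := by
  have hreg : ∀ s : Cen x, IsPRegular 2 s → (s : G) ∈ theta x := fun s hs =>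
    (hD.mem_theta hD.mem hD.ne).2 ⟨mem_centralizer_singleton_iff.1 s.2, by
      rw [← Nat.not_even_iff_odd, even_iff_two_dvd, Subgroup.orderOf_coe]
      exact hs⟩
  refine Finset.sum_bij' (fun s hs => (⟨(s : G), hreg s (Finset.mem_filter.1 hs).2⟩ : theta x))
    (fun k _ => (⟨(k : G), theta_le x k.2⟩ : Cen x)) (fun _ _ => Finset.mem_univ _)
    (fun k _ => Finset.mem_filter.2 ⟨Finset.mem_univ _, fun hd => ?_⟩)
    (fun s _ => rfl) (fun k _ => rfl) (fun s _ => rfl)
  have h := ((hD.mem_theta hD.mem hD.ne).1 k.2).2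
  rw [← Nat.not_even_iff_odd, even_iff_two_dvd] at h
  exact h (by rwa [← Subgroup.orderOf_coe] at hd)

theorem sum_theta (hD : Fifteen P x) (hM : IsPModular 2 M) [Fintype (theta x)]
    (χ : IrrCharacter G) [Decidable (χ ∈ principalBlock M G)] :
    ∑ k : theta x, χ.1 (x * (k : G)) =
      if χ ∈ principalBlock M G then (Nat.card (theta x) : ℂ) * χ.1 x else 0 := by
  classical
  haveI := hM.2.1
  split_ifs with hχ
  · rw [Finset.sum_congr rfl fun k _ => hD.value_x_mul hM hχ k.2, Finset.sum_const,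
      Finset.card_univ, ← Nat.card_eq_fintype_card, nsmul_eq_mul]
  · have h := congrArg conj (S69.sum_section_eq_zero hM hD.two_part
      (EC.mem_B0.1 (EC.one_mem_B0 (G := G) hM)) hχ)
    simp only [H26.oneIrr_val, one_mul, map_zero, map_sum, Complex.conj_conj] at h
    rw [← hD.sum_regular (fun g => χ.1 (x * g))]
    exact h

open scoped Classical in
/-- The norm of the column of `x`. -/
theorem sum_sq (hD : Fifteen P x) (hM : IsPModular 2 M) :
    ∑ χ ∈ EC.B0 M G, χ.1 x * conj (χ.1 x) = 16 := by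
  haveI := Fintype.ofFinite (theta x)
  have hterm : ∀ k : theta x, H26.classIndicator (x * (k : G)) x = if k = 1 then 1 else 0 := by
    intro k
    unfold H26.classIndicator
    by_cases h : k = 1
    · subst h; rw [OneMemClass.coe_one, mul_one, if_pos rfl, if_pos (IsConj.refl x)]
    · rw [if_neg h, if_neg fun hc => h ?_]
      have h2 : (x * (k : G)) * (x * (k : G)) = 1 := hD.sq_eq_one_of_conj hc.symm
      have hcomm : (k : G) * x = x * k := ((hD.mem_theta hD.mem hD.ne).1 k.2).1
      refine Subtype.ext (eq_one_of_odd_of_sq ((hD.mem_theta hD.mem hD.ne).1 k.2).2 ?_)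
      calc (k : G) * k = x * x * ((k : G) * k) := by rw [hD.sq x hD.mem, one_mul]
        _ = x * (x * k) * k := by simp [mul_assoc]
        _ = (x * k) * (x * k) := by
          simp only [mul_assoc]
          rw [← mul_assoc (k : G) x, hcomm, mul_assoc]
        _ = 1 := h2
  have hall : ∑ χ : IrrCharacter G, χ.1 x * conj (∑ k : theta x, χ.1 (x * (k : G))) =
      (Nat.card (Cen x) : ℂ) := by
    simp only [map_sum, Finset.mul_sum]
    rw [Finset.sum_comm, Finset.sum_congr rfl fun k _ => H26.column_orthogonality x _,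
      Finset.sum_eq_single (1 : theta x)]
    · rw [hterm, if_pos rfl, OneMemClass.coe_one, mul_one, mul_one]
    · intro k _ hk; rw [hterm, if_neg hk, mul_zero]
    · intro h; exact absurd (Finset.mem_univ _) h
  simp only [hD.sum_theta hM, apply_ite conj, map_zero, mul_ite, mul_zero,
    ← Finset.sum_filter, map_mul, Complex.conj_natCast] at hall
  rw [hD.card_centralizer, Nat.cast_mul] at hall
  have hw : (Nat.card (theta x) : ℂ) ≠ 0 := Nat.cast_ne_zero.2 Nat.card_pos.ne'
  apply mul_left_cancel₀ hw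
  rw [Finset.mul_sum, EC.B0]
  refine Eq.trans (Finset.sum_congr rfl fun χ _ => ?_) hall
  ring

open scoped Classical in
theorem value_ne_zero (hD : Fifteen P x) (hM : IsPModular 2 M) {χ : IrrCharacter G}
    (hχ : χ ∈ principalBlock M G) : χ.1 x ≠ 0 := by
  intro h0
  have hmaj : (Nat.card (Cen x)).factorization 2 = (Nat.card G).factorization 2 := by
    refine Nat.pow_right_injective (le_refl 2) ?_
    show 2 ^ _ = 2 ^ _
    rw [← (P.subtype (hD.le_cen hD.mem)).card_eq_multiplicity, ← P.card_eq_multiplicity]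
    exact Nat.card_congr (subgroupOfEquivOfLe (hD.le_cen hD.mem)).toEquiv
  refine S69.sum_section_ne_zero hM hD.two_part hmaj hχ ?_
  haveI := Fintype.ofFinite (theta x)
  rw [hD.sum_regular (fun g => χ.1 (x * g))]
  exact Finset.sum_eq_zero fun k _ => (hD.value_x_mul hM hχ k.2).trans h0

theorem exists_mult (S : Subgroup G) [Fintype S] (χ : IrrCharacter G) :
    ∃ m : ℕ, ∑ g : S, χ.1 (g : G) = (Nat.card S : ℂ) * (m : ℂ) := by
  obtain ⟨m, hm⟩ := H26.exists_nat_classInner_irr
    (H26.isCharacter_comp (H26.irr_isCharacter χ) S.subtype) (H26.oneIrr S)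
  refine ⟨m, ?_⟩
  rw [← hm, classInner, ← mul_assoc, mul_inv_cancel₀ (Nat.cast_ne_zero.2 Nat.card_pos.ne'),
    one_mul]
  simp [H26.oneIrr_val]

/-- Restricted to the Sylow subgroup. -/
theorem exists_degree_eq (hD : Fifteen P x) (hM : IsPModular 2 M) {χ : IrrCharacter G}
    (hχ : χ ∈ principalBlock M G) {d : ℤ} (hd : χ.1 x = (d : ℂ)) :
    ∃ m : ℕ, (charDegree χ.1 : ℤ) + 15 * d = 16 * m := by
  classical
  haveI : Fintype (P : Subgroup G) := Fintype.ofFinite _
  obtain ⟨m, hm⟩ := exists_mult (P : Subgroup G) χ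
  refine ⟨m, ?_⟩
  have hc : Fintype.card (P : Subgroup G) = 16 := by rw [← Nat.card_eq_fintype_card, hD.card]
  rw [← Finset.add_sum_erase _ _ (Finset.mem_univ (1 : (P : Subgroup G))),
    OneMemClass.coe_one, H43.irr_charDegree_spec, hD.card,
    Finset.sum_congr rfl (g := fun _ => χ.1 x) fun v hv => hD.value_even hM hχ ?_,
    Finset.sum_const, Finset.card_erase_of_mem (Finset.mem_univ _), Finset.card_univ, hc,
    nsmul_eq_mul, hd] at hm
  · have h : (((charDegree χ.1 : ℤ) + 15 * d : ℤ) : ℂ) = ((16 * (m : ℤ) : ℤ) : ℂ) := by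
      push_cast
      push_cast at hm
      linear_combination hm
    exact_mod_cast h
  · rw [orderOf_eq_prime (by rw [pow_two]; exact hD.sq _ v.2)
      fun h => (Finset.mem_erase.1 hv).1 (Subtype.ext h)]
    exact even_two

theorem not_mem_charKer (hD : Fifteen P x) (hM : IsPModular 2 M) {χ : IrrCharacter G}
    (hχ : χ ∈ principalBlock M G) {d : ℤ} (hd : χ.1 x = (d : ℂ)) (hneg : d < 0) :
    H43.charKer χ = ⊥ := by
  refine hD.core _ inferInstance ?_
  rw [← Nat.not_even_iff_odd]
  intro he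
  obtain ⟨g, hg⟩ := exists_prime_orderOf_dvd_card' (G := H43.charKer χ) 2 (even_iff_two_dvd.1 he)
  rw [← Subgroup.orderOf_coe] at hg
  have h1 := hD.value_even hM hχ (g := (g : G)) (by rw [hg]; exact even_two)
  rw [(H43.mem_charKer.1 g.2), H43.irr_charDegree_spec, hd] at h1
  have : (charDegree χ.1 : ℤ) = d := by exact_mod_cast h1
  omega

/-- A negative value forces a large degree when the cores are non-trivial. -/
theorem degree_ge (hD : Fifteen P x) (hM : IsPModular 2 M) (hth : theta x ≠ ⊥)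
    {χ : IrrCharacter G} (hχ : χ ∈ principalBlock M G) {d : ℤ} (hd : χ.1 x = (d : ℂ))
    (hneg : d < 0) : 15 * (-d) + 16 ≤ (charDegree χ.1 : ℤ) := by
  classical
  haveI := Fintype.ofFinite (theta x)
  obtain ⟨m, hm⟩ := hD.exists_degree_eq hM hχ hd
  obtain ⟨m0, hm0⟩ := exists_mult (theta x) χ
  obtain ⟨m1, hm1⟩ := exists_mult (Cen x) χ
  have hw : (Nat.card (theta x) : ℂ) ≠ 0 := Nat.cast_ne_zero.2 Nat.card_pos.ne'
  -- the centraliser: the core, and values `d`
  have heq : (m0 : ℤ) + 15 * d = 16 * m1 := by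
    rw [← Finset.sum_filter_add_sum_filter_not Finset.univ (fun s : Cen x => IsPRegular 2 s),
      hD.sum_regular (fun g => χ.1 g), hm0,
      Finset.sum_congr rfl (g := fun _ => χ.1 x) fun s hs => hD.value_even hM hχ ?_,
      Finset.sum_const, nsmul_eq_mul, hd, hD.card_centralizer] at hm1
    · have hcard : ((Finset.univ.filter fun s : Cen x => ¬ IsPRegular 2 s).card : ℂ) =
          15 * (Nat.card (theta x) : ℂ) := by
        have h1 : ((Finset.univ.filter fun s : Cen x => IsPRegular 2 s).card : ℂ) =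
            (Nat.card (theta x) : ℂ) := by
          have := hD.sum_regular (fun _ => (1 : ℂ))
          simpa [Nat.card_eq_fintype_card] using this
        have h2 := Finset.card_filter_add_card_filter_not (s := (Finset.univ : Finset (Cen x)))
          (fun s : Cen x => IsPRegular 2 s)
        rw [Finset.card_univ, ← Nat.card_eq_fintype_card, hD.card_centralizer] at h2
        have h3 := congrArg (Nat.cast : ℕ → ℂ) h2
        push_cast at h3
        rw [h1] at h3
        linear_combination h3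
      rw [hcard] at hm1
      have h : (((m0 : ℤ) + 15 * d : ℤ) : ℂ) = ((16 * (m1 : ℤ) : ℤ) : ℂ) := by
        push_cast
        push_cast at hm1
        apply mul_left_cancel₀ hw
        linear_combination hm1
      exact_mod_cast h
    · have h := (Finset.mem_filter.1 hs).2
      simp only [IsPRegular, not_not] at h
      rw [Subgroup.orderOf_coe]
      exact even_iff_two_dvd.2 h
  -- not all of the core is in the kernel
  have hbound : ∀ k : theta x, (χ.1 (k : G)).re ≤ (charDegree χ.1 : ℝ) := fun k =>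
    (Complex.re_le_norm _).trans (H25.norm_le_charDegree (H26.irr_isCharacter χ) _)
  obtain ⟨k, hk⟩ : ∃ k : theta x, (χ.1 (k : G)).re < (charDegree χ.1 : ℝ) := by
    by_contra hc
    simp only [not_exists, not_lt] at hc
    refine hth ((Subgroup.eq_bot_iff_forall _).2 fun k hk => ?_)
    have hre := le_antisymm (hbound ⟨k, hk⟩) (hc ⟨k, hk⟩)
    have hker : k ∈ H43.charKer χ := by
      rw [H43.mem_charKer, H43.irr_charDegree_spec]
      refine Complex.ext (by simpa using hre) ?_
      have hn := H25.norm_le_charDegree (H26.irr_isCharacter χ) k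
      have h2 := Complex.sq_norm (χ.1 k)
      rw [Complex.normSq_apply] at h2
      have h3 : ‖χ.1 k‖ ^ 2 ≤ (charDegree χ.1 : ℝ) ^ 2 := pow_le_pow_left₀ (norm_nonneg _) hn 2
      rw [Complex.natCast_im]
      simp only at hre
      nlinarith
    rwa [hD.not_mem_charKer hM hχ hd hneg, Subgroup.mem_bot] at hker
  have hlt : (m0 : ℝ) < (charDegree χ.1 : ℝ) := by
    have h := congrArg Complex.re hm0
    rw [Complex.re_sum, ← Complex.ofReal_natCast, ← Complex.ofReal_natCast, ← Complex.ofReal_mul,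
      Complex.ofReal_re] at h
    have := Finset.sum_lt_sum (fun i _ => hbound i) ⟨k, Finset.mem_univ k, hk⟩
    rw [h, Finset.sum_const, Finset.card_univ, ← Nat.card_eq_fintype_card, nsmul_eq_mul] at this
    exact lt_of_mul_lt_mul_left this (Nat.cast_nonneg _)
  have hlt' : (m0 : ℤ) < (charDegree χ.1 : ℤ) := by exact_mod_cast hlt
  have : (m1 : ℤ) < (m : ℤ) := by omega
  omega

open scoped Classical in
/-- The count of pairs as a sum over the principal block. -/
theorem pairs_identity (hD : Fifteen P x) (hM : IsPModular 2 M) [Fintype (theta x)] :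
    256 * (Nat.card (theta x) : ℂ) * (Nat.card (Pairs x) : ℂ) =
      (Nat.card G : ℂ) *
        ∑ χ ∈ EC.B0 M G, conj (χ.1 x) * conj (χ.1 x) * χ.1 x / χ.1 1 := by
  have h : (Nat.card (Pairs x) : ℂ) = ((Cen x).index : ℂ) * ((Cen x).index : ℂ) *
      (Nat.card G : ℂ)⁻¹ * ((Nat.card (theta x) : ℂ) *
        ∑ χ ∈ EC.B0 M G, conj (χ.1 x) * conj (χ.1 x) * χ.1 x / χ.1 1) := by
    rw [card_pairs_eq_sum, Nat.cast_sum,
      Finset.sum_congr rfl (fun (k : theta x) (_ : k ∈ Finset.univ) =>
        H42.pairCount_formula x x (x * (k : G))),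
      ← Finset.mul_sum, Finset.sum_comm]
    congr 1
    rw [EC.B0, Finset.mul_sum, Finset.sum_filter]
    refine Finset.sum_congr rfl fun χ _ => ?_
    rw [← Finset.sum_div, ← Finset.mul_sum, hD.sum_theta hM]
    split_ifs <;> ring
  have hidx : ((Cen x).index : ℂ) * ((Nat.card (theta x) : ℂ) * 16) = (Nat.card G : ℂ) := by
    have := (Cen x).index_mul_card
    rw [hD.card_centralizer] at this
    exact_mod_cast this
  have hg : (Nat.card G : ℂ) ≠ 0 := Nat.cast_ne_zero.2 Nat.card_pos.ne'
  rw [h]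
  generalize (∑ χ ∈ EC.B0 M G, conj (χ.1 x) * conj (χ.1 x) * χ.1 x / χ.1 1) = T
  field_simp
  linear_combination (((Cen x).index : ℂ) * ((Nat.card (theta x) : ℂ) * 16) + (Nat.card G : ℂ)) *
    T * hidx

open scoped Classical in
/-- The index of the big subgroup is small when the cores are non-trivial. -/
theorem index_lt (hD : Fifteen P x) (hM : IsPModular 2 M) (hth : theta x ≠ ⊥) :
    (big P).index < 49 := by
  haveI := hM.2.1
  haveI := Fintype.ofFinite (theta x)
  choose a ha using fun χ : IrrCharacter G => H56.exists_int_involution χ hD.orderOf_eq_two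
  set d : IrrCharacter G → ℤ := fun χ => 2 * (a χ : ℤ) - charDegree χ.1 with hd
  have hdx : ∀ χ : IrrCharacter G, χ.1 x = (d χ : ℂ) := ha
  have hsum : ∑ χ ∈ EC.B0 M G, d χ ^ 2 = 16 := by
    have h := hD.sum_sq hM
    simp only [hdx, map_intCast, ← pow_two] at h
    exact_mod_cast h
  set o := H26.oneIrr G
  have hom : o ∈ EC.B0 M G := EC.one_mem_B0 hM
  have hdo : d o = 1 := by
    have := hdx o
    rw [H26.oneIrr_val] at this
    exact_mod_cast this.symm
  have hfo : charDegree o.1 = 1 := by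
    have := H43.irr_charDegree_spec o
    rw [H26.oneIrr_val] at this
    exact_mod_cast this.symm
  set B := (EC.B0 M G).erase o
  have hB : ∑ χ ∈ B, d χ ^ 2 = 15 := by
    rw [← Finset.add_sum_erase _ _ hom, hdo] at hsum
    linarith
  set S : ℝ := ∑ χ ∈ EC.B0 M G, (d χ : ℝ) ^ 3 / (charDegree χ.1 : ℝ) with hS
  have hid : 256 * (Nat.card (theta x) : ℝ) * (Nat.card (Pairs x) : ℝ) = (Nat.card G : ℝ) * S := by
    have h := hD.pairs_identity hM
    simp only [hdx, map_intCast, H43.irr_charDegree_spec] at h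
    apply Complex.ofReal_injective
    rw [hS]
    push_cast
    rw [h]
    congr 1
    exact Finset.sum_congr rfl fun χ _ => by ring
  have hterm : ∀ χ ∈ B, -((d χ : ℝ) ^ 2 / 31 + (if d χ = -2 then (8 / 46 - 4 / 31 : ℝ) else 0) +
      (if d χ = -3 then (27 / 61 - 9 / 31 : ℝ) else 0)) ≤ (d χ : ℝ) ^ 3 / (charDegree χ.1 : ℝ) := by
    intro χ hχ
    have hsq : d χ ^ 2 ≤ 15 := hB ▸ Finset.single_le_sum (fun i _ => sq_nonneg (d i)) hχ
    have hlo : -3 ≤ d χ := by nlinarith
    rcases lt_or_ge (d χ) 0 with hneg | hpos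
    · have hf := hD.degree_ge hM hth (EC.mem_B0.1 (Finset.mem_erase.1 hχ).2) (hdx χ) hneg
      have hfR : ((15 * (-(d χ)) + 16 : ℤ) : ℝ) ≤ ((charDegree χ.1 : ℤ) : ℝ) := Int.cast_le.2 hf
      have : d χ = -1 ∨ d χ = -2 ∨ d χ = -3 := by omega
      rcases this with e | e | e <;> rw [e] at hfR ⊢ <;> push_cast at hfR ⊢ <;> norm_num <;>
        (rw [neg_div, neg_le_neg_iff, div_le_iff₀ (by linarith)]; linarith)
    · have : (0 : ℝ) ≤ (d χ : ℝ) ^ 3 / (charDegree χ.1 : ℝ) :=
        div_nonneg (pow_nonneg (by exact_mod_cast hpos) 3) (Nat.cast_nonneg _)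
      rw [if_neg (by omega), if_neg (by omega)]
      nlinarith [sq_nonneg (d χ : ℝ)]
  set c2 := (B.filter fun χ => d χ = -2).card
  set c3 := (B.filter fun χ => d χ = -3).card
  have hc : 4 * c2 + 9 * c3 ≤ 15 := by
    have h1 : ∑ χ ∈ B, ((if d χ = -2 then 4 else 0) + (if d χ = -3 then 9 else 0) : ℤ) ≤
        ∑ χ ∈ B, d χ ^ 2 := Finset.sum_le_sum fun χ _ => by
      split_ifs with e e' e'
      · omega
      · rw [e]; norm_num
      · rw [e']; norm_num
      · simpa using sq_nonneg (d χ)
    rw [hB, Finset.sum_add_distrib, ← Finset.sum_filter, ← Finset.sum_filter, Finset.sum_const,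
      Finset.sum_const] at h1
    simp only [nsmul_eq_mul] at h1
    omega
  have hlow : (0.318 : ℝ) ≤ S := by
    have h1 := Finset.sum_le_sum hterm
    rw [Finset.sum_neg_distrib, Finset.sum_add_distrib, Finset.sum_add_distrib, ← Finset.sum_filter,
      ← Finset.sum_filter, Finset.sum_const, Finset.sum_const, ← Finset.sum_div,
      show ∑ χ ∈ B, (d χ : ℝ) ^ 2 = 15 by exact_mod_cast congrArg (Int.cast : ℤ → ℝ) hB] at h1
    simp only [nsmul_eq_mul] at h1
    have hcases : (c2 : ℝ) * (8 / 46 - 4 / 31) + (c3 : ℝ) * (27 / 61 - 9 / 31) ≤ 0.198 := by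
      have h2 : c2 ≤ 3 := by omega
      have h3 : c3 ≤ 1 := by omega
      interval_cases c3
      · have : (c2 : ℝ) ≤ 3 := by exact_mod_cast h2
        push_cast; nlinarith
      · have : (c2 : ℝ) ≤ 1 := by exact_mod_cast (show c2 ≤ 1 by omega)
        push_cast; nlinarith
    rw [hS, ← Finset.add_sum_erase _ _ hom, hdo, hfo]
    push_cast
    linarith
  have hN : (Nat.card (Pairs x) : ℝ) * (Nat.card (theta x) : ℝ) ≤ 14 * (Nat.card (comp P) : ℝ) := by
    exact_mod_cast hD.card_pairs_mul_le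
  have hG : ((big P).index : ℝ) * (240 * (Nat.card (comp P) : ℝ)) ≤ (Nat.card G : ℝ) := by
    have h : (big P).index * (240 * Nat.card (comp P)) ≤ Nat.card G := by
      rw [← (big P).index_mul_card]
      exact Nat.mul_le_mul_left _ hD.card_big_ge
    exact_mod_cast h
  by_contra hn
  have hn' : (49 : ℝ) ≤ ((big P).index : ℝ) := by exact_mod_cast not_lt.1 hn
  have hWpos : (0 : ℝ) < (Nat.card (comp P) : ℝ) := Nat.cast_pos.2 Nat.card_pos
  nlinarith

end Cfsg.Agent.H92.S70.Fifteen
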